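import Mathlib
import Cfsg.Agent.KFacts.RgdAut
import Cfsg.Agent.H533.T5.SporDefs_m3
import Cfsg.Agent.H334.Symp.ModelSetup
import Cfsg.Agent.H65.Disp.Chev
import Cfsg.Agent.H965.XZ.Walk
import Cfsg.Agent.OddOrderLocal.TypePData
import Cfsg.Agent.ChevalleyStructure.SL2Hom
import Cfsg.Agent.FastGrp
import Cfsg.Agent.Prune
set_option linter.all false
prune_inst 0x7f00000000000000000000000000000000000000000000000000000000000000000000000000000000000000000000000000000000000000000000000000000000000000000000000000000000000000003fffffffffffffffffffffffffffbeffbdffffffff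
open scoped Cfsg.Agent.FastGrp

/-!
# S3826: fixed cosets of automorphisms of order three, images of `SL₂` (helper866)
-/

set_option autoImplicit false
set_option linter.unusedSectionVars false

namespace Cfsg.Agent.H866.D4Wf

open Subgroup Cfsg.Agent.KFacts.RgdAut Cfsg.Agent.H533.Wf
open Matrix (SpecialLinearGroup)

section Coset

variable {Y : Type*} [Group Y]

theorem Fix.of_inv_mul_mem {β : MulAut Y} {L : Subgroup Y} (h : _root_.Cfsg.Agent.KFacts.RgdAut.Fix β L) {a b : Y} (hab : a⁻¹ * b ∈ L) :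
    (β a)⁻¹ * β b ∈ L := by
  rw [← map_inv, ← map_mul]
  exact (h _).2 hab

/-- The map `g L ↦ z β(g) L` of order three has a fixed point if the index is prime to three. -/
theorem exists_coset_fix [Finite Y] {β : MulAut Y} {P L : Subgroup Y} (hβP : _root_.Cfsg.Agent.KFacts.RgdAut.Fix β P) (hβL : _root_.Cfsg.Agent.KFacts.RgdAut.Fix β L)
    (hidx : ¬ 3 ∣ L.relIndex P) {z : Y} (hz : z ∈ P) (hβ : ∀ y, β (β (β y)) = y)
    (hx : z * β z * β (β z) = 1) : ∃ g ∈ P, g⁻¹ * z * β g ∈ L := by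
  classical
  let Q := ↥P ⧸ L.subgroupOf P
  have hfin : Finite Q := inferInstance
  have := Fintype.ofFinite Q
  let f0 : ↥P → ↥P := fun g => ⟨z * β g.1, mul_mem hz ((hβP _).2 g.2)⟩
  have hf0 : ∀ a b : ↥P, QuotientGroup.leftRel (L.subgroupOf P) a b → QuotientGroup.leftRel (L.subgroupOf P) (f0 a) (f0 b) := by
    intro a b hab
    rw [QuotientGroup.leftRel_apply, mem_subgroupOf] at hab ⊢
    show (z * β a.1)⁻¹ * (z * β b.1) ∈ L
    have e : (z * β a.1)⁻¹ * (z * β b.1) = (β a.1)⁻¹ * β b.1 := by group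
    rw [e]
    exact Fix.of_inv_mul_mem hβL hab
  let f : Q → Q := Quotient.map' f0 hf0
  have hf : ∀ a : ↥P, f (QuotientGroup.mk a) = QuotientGroup.mk (f0 a) := fun a => rfl
  have hf3 : ∀ a : Q, f (f (f a)) = a := by
    intro a
    obtain ⟨g, rfl⟩ := QuotientGroup.mk_surjective a
    rw [hf, hf, hf]
    congr 1
    apply Subtype.ext
    show z * β (z * β (z * β g.1)) = g.1
    rw [map_mul, map_mul, map_mul, hβ]
    calc z * (β z * (β (β z) * g.1)) = (z * β z * β (β z)) * g.1 := by group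
      _ = g.1 := by rw [hx, one_mul]
  let e : Equiv.Perm Q :=
    { toFun := f
      invFun := fun a => f (f a)
      left_inv := fun a => hf3 a
      right_inv := fun a => hf3 a }
  have he : e ^ 3 ^ 1 = 1 := by
    ext a
    show f (f (f a)) = a
    exact hf3 a
  have hnd : ¬ 3 ∣ Fintype.card Q := by
    rw [← Nat.card_eq_fintype_card]
    exact hidx
  have : Fact (Nat.Prime 3) := ⟨Nat.prime_three⟩
  obtain ⟨a, ha⟩ := Equiv.Perm.exists_fixed_point_of_prime (p := 3) hnd he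
  obtain ⟨g, rfl⟩ := QuotientGroup.mk_surjective a
  have h1 : (QuotientGroup.mk g : Q) = QuotientGroup.mk (f0 g) := ha.symm
  rw [QuotientGroup.eq, mem_subgroupOf] at h1
  refine ⟨g.1, g.2, ?_⟩
  have h2 : g.1⁻¹ * (z * β g.1) ∈ L := h1
  rwa [← mul_assoc] at h2

/-- If `P = V L` then `|P : L|` divides `|V|`. -/
theorem relIndex_dvd_card [Finite Y] {P L V : Subgroup Y} (hV : V ≤ P)
    (h : ∀ g ∈ P, ∃ v ∈ V, ∃ l ∈ L, g = v * l) : L.relIndex P ∣ Nat.card V := by
  let Q := ↥P ⧸ L.subgroupOf P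
  have htr : ∀ a : Q, ∃ v : ↥(V.subgroupOf P), v • (QuotientGroup.mk 1 : Q) = a := by
    intro a
    obtain ⟨g, rfl⟩ := QuotientGroup.mk_surjective a
    obtain ⟨v, hv, l, hl, e⟩ := h g g.2
    refine ⟨⟨⟨v, hV hv⟩, mem_subgroupOf.2 hv⟩, ?_⟩
    show (QuotientGroup.mk ((⟨v, hV hv⟩ : ↥P) * 1) : Q) = QuotientGroup.mk g
    rw [mul_one, QuotientGroup.eq, mem_subgroupOf]
    show v⁻¹ * g.1 ∈ L
    rw [e, inv_mul_cancel_left]
    exact hl
  have h2 : Nat.card ↥(V.subgroupOf P) = Nat.card V :=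
    Nat.card_congr (Subgroup.subgroupOfEquivOfLe hV).toEquiv
  have h3 : MulAction.orbit ↥(V.subgroupOf P) (QuotientGroup.mk 1 : Q) = Set.univ := by
    rw [Set.eq_univ_iff_forall]
    exact fun a => htr a
  have h4 := MulAction.index_stabilizer (↥(V.subgroupOf P)) (QuotientGroup.mk 1 : Q)
  rw [h3, Set.ncard_univ] at h4
  have h5 : L.relIndex P = Nat.card Q := rfl
  rw [h5, ← h4, ← h2]
  exact Subgroup.index_dvd_card _

end Coset

section SLTwo

variable {F : Type*} [Field F] [Fintype F] {Y : Type*} [Group Y]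

/-- Images of `SL₂`. -/
theorem qs_range (hF : 3 < Fintype.card F) (f : _root_.Matrix.SpecialLinearGroup (Fin 2) F →* Y) (hf : f.range ≠ ⊥) :
    QS f.range := by
  refine ⟨?_, hf, ?_⟩
  · rw [MonoidHom.range_eq_map, ← Subgroup.map_commutator]
    congr 1
    exact Cfsg.Agent.TwoFusion.SLTwoFacts.commutator_eq_top hF
  · intro N hN hn
    have hNe : (N.comap f).map f = N := Subgroup.map_comap_eq_self hN
    have hnn : (N.comap f).Normal := ⟨fun x hx g => by
      rw [mem_comap] at hx ⊢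
      rw [map_mul, map_mul, map_inv]
      exact ((mem_normalizer_iff.1 (hn ⟨g, rfl⟩)) _).1 hx⟩
    rcases Cfsg.Agent.H334.Symp.El.sl_normal hF _ hnn with h | h
    · left
      rw [← hNe, h, MonoidHom.range_eq_map]
    · right
      intro x hx
      rw [← hNe] at hx
      obtain ⟨y, hy, rfl⟩ := hx
      rw [mem_centralizer_iff]
      rintro _ ⟨l, rfl⟩
      have h4 := (mem_center_iff.1 (h hy)) l
      rw [← map_mul, ← map_mul, h4]

end SLTwo

end Cfsg.Agent.H866.D4Wf

/-!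
# S3826: automorphisms of order three lie in a parabolic coset; indices (helper866)

`R : RGD cs h p T n X`, `GG = ⊤`.

* `exists_par` : an automorphism `conj a * β` of order three (`β` a frame automorphism) is conjugate to `conj z * β` with
  `z` in a maximal parabolic subgroup;
* `card_PJ_single`, `not_dvd_relIndex_T` : `|P_i : T|` prime to three;
* `relIndex_dvd_B` : `|P_i : L|` divides `|B|`, `L ≥ X_i, X_{-i}` normalised by `T`.
-/

set_option autoImplicit false
set_option linter.unusedSectionVars false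

namespace Cfsg.Agent.H866.D4Wf

open CoxeterSystem Cfsg.Agent.ChevalleyStructure.CoxeterGeom Cfsg.Agent.Tits.Roots Cfsg.Agent.Tits.Core
  Cfsg.Agent.Tits.RootComb Cfsg.Agent.Tits.Exchange Cfsg.Agent.Nodes.Reps Cfsg.Agent.Nodes.BNOf
  Cfsg.Agent.Nodes.StabComb Cfsg.Agent.Nodes.Bruhat Cfsg.Agent.Nodes.OppDec Cfsg.Agent.Nodes.LeviDec
  Cfsg.Agent.Nodes.NormalForm Cfsg.Agent.KFacts.RgdOpp Cfsg.Agent.KFacts.RgdAut Cfsg.Agent.KFacts.RgdDiag
  Cfsg.Agent.KFacts.RgdRigid Cfsg.Agent.CpAut.RgdFix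
open Cfsg.Agent.H65.Disp Cfsg.Agent.H65.Disp.Rgd Cfsg.Agent.H65.Disp.Chev
open scoped Pointwise

section Par

variable {l : ℕ} {W Y : Type*} [Group W] [Group Y] {M : CoxeterMatrix (Fin l)}
  {cs : CoxeterSystem M W} {A : Fin l → Fin l → ℤ} {h : IsCartan M A} {p : ℕ} {T : Subgroup Y} {n : Fin l → Y}
  {X : (Fin l → ℤ) → Subgroup Y} (R : RGD cs h p T n X)

include R

/-- **Automorphisms of order three are conjugate into a coset of a maximal parabolic subgroup.** -/
theorem exists_par [Finite W] [Finite Y] [Fact p.Prime] (hG : GG cs h T X = ⊤) {ω : List (Fin l)}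
    (hT : Ty M A ω) {a : Y} {β : MulAut Y} (hU : _root_.Cfsg.Agent.KFacts.RgdAut.Fix β (RGD.Sup X (RGD.Pos cs h))) (D : _root_.Cfsg.Agent.KFacts.RgdDiag.Diag T X β 1)
    (hx : (MulAut.conj a * β) ^ 3 = 1) :
    ∃ (g z : Y) (i : Fin l), z ∈ PJ cs h T X {j | j ≠ i} ∧
      (MulAut.conj g)⁻¹ * (MulAut.conj a * β) * MulAut.conj g = MulAut.conj z * β := by
  obtain ⟨i₀, hi₀⟩ := hT.ne
  have : Nonempty (Fin l) := ⟨i₀⟩
  have hw2 := length_sq (cs := cs) h hT.chk2 hT.chk
  have hw3 := cube_ne (cs := cs) h hi₀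
  have hB := fix_B R hG hU
  obtain ⟨g, z, hz, hg⟩ := exists_displace R hG a hU D ω (o := 1) (fun i => by
    show i ∈ ω ++ [].map _
    simpa using hT.all i)
  have hz3 : (MulAut.conj z * β) ^ 3 = 1 := by
    rw [← hg]
    have e : ∀ u v : MulAut Y, (u⁻¹ * v * u) ^ 3 = u⁻¹ * v ^ 3 * u := by
      intro u v
      simp only [pow_succ, pow_zero, one_mul]
      group
    rw [e, hx, mul_one, inv_mul_cancel]
  have hq := mem_B_of_cube R hG hU hz3
  obtain ⟨ω', hsub, hc⟩ := cell_of_PP R hz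
  by_cases hww : ω' = ω
  · exfalso
    rw [hww] at hc
    have h1 := cell_map R D hB hc
    have h2 := cell_map R D hB h1
    have h3 := Cell.mul_of_length R hw2 hc h1
    have h4 := h2.inv.mul_left hq
    rw [mul_inv_cancel_right] at h4
    have h5 := Cell.unique R h3 h4
    exact hw3 (by rw [h5, inv_mul_cancel])
  · obtain ⟨i, hi⟩ : ∃ i, i ∉ ω' := by
      by_contra hcon
      push Not at hcon
      refine hww (hsub.eq_of_length_le ?_)
      have h1 : ω.toFinset ⊆ ω'.toFinset := fun i _ => List.mem_toFinset.2 (hcon i)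
      have h2 := Finset.card_le_card h1
      rw [List.toFinset_card_of_nodup hT.nodup] at h2
      exact h2.trans (List.toFinset_card_le _)
    refine ⟨g, z, i, ?_, hg⟩
    rw [cell_mem_PJ_iff R hc]
    exact wordProd_mem_WJ cs fun j hj => by
      rintro rfl
      exact hi hj

end Par

section Index

variable {I W Y : Type*} [Fintype I] [DecidableEq I] [Group W] [Group Y] {M : CoxeterMatrix I}
  {cs : CoxeterSystem M W} {A : I → I → ℤ} {h : IsCartan M A} {p : ℕ} {T : Subgroup Y} {n : I → Y}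
  {X : (I → ℤ) → Subgroup Y} (R : RGD cs h p T n X)

include R

theorem card_PJ_single [Finite W] [Finite Y] (i : I) {y : ℕ} (hy : Nat.card (X (sr i)) = y) :
    Nat.card ↥(PJ cs h T X {i}) = (1 + y) * (Nat.card ↥(RGD.Sup X (RGD.Pos cs h)) * Nat.card ↥T) := by
  have hP : H35.Poin.APath A {i} (fun _ => i) 1 :=
    ⟨fun _ _ => rfl, fun t ht => absurd ht (by omega), fun s t _ _ => absurd (show False by omega) id,
      fun j hj h1 => absurd (Set.mem_singleton_iff.1 hj).symm (h1 0 (by norm_num)), fun s hs t ht _ => by omega⟩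
  have h1 := H35.Poin.card_PJ_path R hP (y := y) (fun _ _ => hy)
  have h2 : ({i} : Set I) \ {j | ∃ t < 1, (fun _ => i) t = j} = ∅ := by
    ext j
    simp only [Set.mem_sdiff, Set.mem_singleton_iff, Set.mem_ofPred_eq, Set.mem_empty_iff_false, iff_false, not_and,
      not_not]
    rintro rfl
    exact ⟨0, by norm_num, rfl⟩
  rw [h2, H35.Poin.PJ_empty, H35.Poin.card_B' R] at h1
  rw [h1]
  congr 1
  simp [Finset.sum_range_succ]

theorem not_dvd_card_U [Finite W] [Finite Y] [Fact p.Prime] (hp3 : p ≠ 3) :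
    ¬ 3 ∣ Nat.card ↥(RGD.Sup X (RGD.Pos cs h)) := by
  obtain ⟨k, hk⟩ := IsPGroup.iff_card.1 R.isPGroup_Upos
  rw [hk]
  intro h1
  have h2 := Nat.prime_three.dvd_of_dvd_pow h1
  exact hp3 ((Nat.prime_dvd_prime_iff_eq Nat.prime_three Fact.out).1 h2).symm

theorem T_le_PJ (J : Set I) : T ≤ PJ cs h T X J := RGD.T_le_B.trans B_le_PJ

theorem not_dvd_relIndex_T [Finite W] [Finite Y] [Fact p.Prime] (hp3 : p ≠ 3) (i : I)
    (hy : ¬ 3 ∣ 1 + Nat.card (X (sr i))) : ¬ 3 ∣ T.relIndex (PJ cs h T X {i}) := by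
  have h1 := card_PJ_single R i rfl
  have h2 : T.relIndex (PJ cs h T X {i}) * Nat.card T = Nat.card ↥(PJ cs h T X {i}) := by
    have h3 := Subgroup.card_mul_index (T.subgroupOf (PJ cs h T X {i}))
    rw [Nat.card_congr (Subgroup.subgroupOfEquivOfLe (T_le_PJ R {i})).toEquiv] at h3
    rw [← h3, mul_comm]
    rfl
  rw [h1, ← mul_assoc] at h2
  have h3 : T.relIndex (PJ cs h T X {i}) = (1 + Nat.card (X (sr i))) * Nat.card ↥(RGD.Sup X (RGD.Pos cs h)) :=
    Nat.eq_of_mul_eq_mul_right Nat.card_pos h2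
  rw [h3]
  intro h4
  rcases (Nat.Prime.dvd_mul Nat.prime_three).1 h4 with h5 | h5
  · exact hy h5
  · exact not_dvd_card_U R hp3 h5

/-- a root supported on one node -/
theorem eq_of_mem_RootsJ {i : I} {x : I → ℤ} (hx : x ∈ RootsJ cs h {i}) : x = sr i ∨ x = -sr i := by
  obtain ⟨h1, h2⟩ := hx
  rcases h1.pos_or_neg with h3 | h3
  · left
    exact h1.eq_sr h3 i fun k hk => h2 k hk
  · right
    have h4 := h1.neg.eq_sr (neg_nonneg.2 h3) i fun k hk => by
      rw [Pi.neg_apply, h2 k hk, neg_zero]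
    rw [← h4, neg_neg]

theorem relIndex_dvd_B [Finite Y] {i : I} {L : Subgroup Y} (hpos : X (sr i) ≤ L) (hneg : X (-sr i) ≤ L)
    (hTL : T ≤ Subgroup.normalizer (L : Set Y)) :
    L.relIndex (PJ cs h T X {i}) ∣ Nat.card ↥(RGD.B cs h T X) := by
  refine relIndex_dvd_card B_le_PJ fun g hg => ?_
  obtain ⟨l, hl, v, hv, e⟩ := (mem_PJ R).1 (inv_mem hg)
  have h1 : LJ cs h T X {i} ≤ T ⊔ L := by
    refine sup_le le_sup_left (le_trans (RGD.Sup_le fun x hx => ?_) le_sup_right)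
    rcases eq_of_mem_RootsJ R hx with rfl | rfl
    · exact hpos
    · exact hneg
  obtain ⟨t, ht, m, hm, e2⟩ := Cfsg.Agent.OddOrderLocal.TypePData.mem_sup_of_le_normalizer hTL (h1 hl)
  refine ⟨v⁻¹ * t⁻¹, mul_mem (inv_mem (VJ_le_B {i} hv)) (inv_mem (RGD.T_le_B ht)), t * m⁻¹ * t⁻¹,
    ((Subgroup.mem_normalizer_iff.1 (hTL ht)) _).1 (inv_mem hm), ?_⟩
  rw [← inv_inv g, e, e2]
  group

end Index

end Cfsg.Agent.H866.D4Wf

/-!
# Elements of order three of `SL₂(F)⟨σ⟩` (helper866)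

* `descent` : `A σ(A) σ²(A) = 1` implies `A = G σ(G)⁻¹`;
* `exists_conj_cZ` : the elements of order three of `SL₂(F)`;
-/

set_option autoImplicit false

namespace Cfsg.Agent.H866.D4Wf.SLThree

open Matrix Cfsg.Agent.ChevalleyStructure.SL2Hom

variable {F : Type*} [Field F]

theorem up_coe (a : F) : (up a).1 = !![1, a; 0, 1] := rfl

theorem up_mul (a b : F) : up a * up b = up (a + b) := by
  apply Subtype.ext
  rw [Matrix.SpecialLinearGroup.coe_mul, up_coe, up_coe, up_coe]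
  ext i j
  (revert i j; simp only [Matrix.mul_apply, Fin.sum_univ_two, _root_.Fin.forall_fin_succ, _root_.Matrix.of_apply, _root_.Matrix.cons_val', _root_.Matrix.cons_val_fin_one, Fin.isValue, _root_.Matrix.cons_val_zero, _root_.Matrix.cons_val_one, _root_.mul_one, _root_.MulZeroClass.mul_zero, _root_.add_zero, _root_.Matrix.cons_val_succ, _root_.forall_const, _root_.one_mul, _root_.MulZeroClass.zero_mul, _root_.zero_add, _root_.implies_true, _root_.and_true, _root_.true_and]) <;> (repeat' with_reducible apply And.intro)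
  ring

theorem up_zero' : up (0 : F) = 1 := by
  apply Subtype.ext
  rw [Matrix.SpecialLinearGroup.coe_one, up_coe]
  ext i j
  (revert i j; simp only [_root_.Fin.forall_fin_succ, _root_.Matrix.of_apply, _root_.Matrix.cons_val', _root_.Matrix.cons_val_fin_one, Fin.isValue, _root_.Matrix.cons_val_zero, _root_.Matrix.cons_val_succ, _root_.IsEmpty.forall_iff, _root_.and_true, _root_.Matrix.one_apply_eq, Nat.reduceAdd, _root_.Fin.succ_zero_eq_one, _root_.ne_eq, _root_.zero_ne_one, _root_.not_false_eq_true, _root_.Matrix.one_apply_ne, _root_.and_self, _root_.Fin.succ_ne_zero, _root_.true_and])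

theorem up_inv' (a : F) : (up a)⁻¹ = up (-a) := by
  rw [inv_eq_iff_mul_eq_one, up_mul, add_neg_cancel, up_zero']

theorem up_inj' {a b : F} (h : up a = up b) : a = b := by
  have := congrArg (fun M : Matrix.SpecialLinearGroup (Fin 2) F => M.1 0 1) h
  simpa [up_coe] using this

theorem map_up (σ : F ≃+* F) (a : F) : Matrix.SpecialLinearGroup.map (σ : F →+* F) (up a) = up (σ a) := by
  apply Subtype.ext
  ext i j
  show σ ((up a).1 i j) = (up (σ a)).1 i j
  rw [up_coe, up_coe]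
  (revert i j; simp only [_root_.Fin.forall_fin_succ, _root_.Matrix.of_apply, _root_.Matrix.cons_val', _root_.Matrix.cons_val_fin_one, Fin.isValue, _root_.Matrix.cons_val_zero, _root_.Matrix.cons_val_succ, _root_.forall_const, _root_.map_one, _root_.and_self, _root_.map_zero, _root_.implies_true])

theorem eq_up {B : Matrix.SpecialLinearGroup (Fin 2) F} (h0 : B.1 0 0 = 1) (h1 : B.1 1 0 = 0) : B = up (B.1 0 1) := by
  have hd := B.2
  rw [Matrix.det_fin_two, h0, h1, mul_zero, sub_zero, one_mul] at hd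
  apply Subtype.ext
  rw [up_coe]
  ext i j
  fin_cases i <;> fin_cases j
  · simpa only [_root_.Fin.zero_eta, _root_.Fin.isValue, _root_.Matrix.of_apply, _root_.Matrix.cons_val', _root_.Matrix.cons_val_zero, _root_.Matrix.cons_val_fin_one] using h0
  · simp
  · simpa using h1
  · simpa using hd

theorem comm_of_diag {E : Matrix.SpecialLinearGroup (Fin 2) F} (h10 : E.1 1 0 = 0) (h01 : E.1 0 1 = 0)
    (h00 : E.1 0 0 ^ 2 = 1) (M : Matrix.SpecialLinearGroup (Fin 2) F) : E * M = M * E := by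
  have hd := E.2
  rw [Matrix.det_fin_two, h10, h01, mul_zero, sub_zero] at hd
  have h11 : E.1 1 1 = E.1 0 0 := by
    have h5 : E.1 0 0 ≠ 0 := left_ne_zero_of_mul_eq_one hd
    have h6 : E.1 0 0 * E.1 1 1 = E.1 0 0 * E.1 0 0 := hd.trans (h00.symm.trans (pow_two _))
    exact mul_left_cancel₀ h5 h6
  apply Subtype.ext
  rw [Matrix.SpecialLinearGroup.coe_mul, Matrix.SpecialLinearGroup.coe_mul]
  ext i j
  rw [Matrix.mul_apply, Matrix.mul_apply, Fin.sum_univ_two, Fin.sum_univ_two]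
  fin_cases i <;> fin_cases j
  · show E.1 0 0 * M.1 0 0 + E.1 0 1 * M.1 1 0 = M.1 0 0 * E.1 0 0 + M.1 0 1 * E.1 1 0
    rw [h10, h01]
    ring
  · show E.1 0 0 * M.1 0 1 + E.1 0 1 * M.1 1 1 = M.1 0 0 * E.1 0 1 + M.1 0 1 * E.1 1 1
    rw [h11, h01]
    ring
  · show E.1 1 0 * M.1 0 0 + E.1 1 1 * M.1 1 0 = M.1 1 0 * E.1 0 0 + M.1 1 1 * E.1 1 0
    rw [h11, h10]
    ring
  · show E.1 1 0 * M.1 0 1 + E.1 1 1 * M.1 1 1 = M.1 1 0 * E.1 0 1 + M.1 1 1 * E.1 1 1
    rw [h10, h01]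
    ring

/-- independence of the powers of an automorphism of order three -/
theorem exists_indep {σ : F ≃+* F} (hσ : ∀ a, σ (σ (σ a)) = a) (hne : ∃ a, σ a ≠ a) (b c : F) :
    ∃ l : F, l + σ l * b + σ (σ l) * c ≠ 0 := by
  by_contra hcon
  push Not at hcon
  let s : F →* F := (σ : F →+* F)
  let f : Fin 3 → (F →* F) := ![MonoidHom.id F, s, s.comp s]
  have hs : ∀ a, s a = σ a := fun a => rfl
  obtain ⟨a, ha⟩ := hne
  have hf : Function.Injective f := by
    have h01 : f 0 ≠ f 1 := fun h => ha (DFunLike.congr_fun h a).symm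
    have h12 : f 1 ≠ f 2 := fun h => by
      have h1 : σ a = σ (σ a) := DFunLike.congr_fun h a
      exact ha (σ.injective h1).symm
    have h02 : f 0 ≠ f 2 := fun h => by
      have h1 : a = σ (σ a) := DFunLike.congr_fun h a
      apply ha
      conv_lhs => rw [h1]
      exact hσ a
    intro i j hij
    fin_cases i <;> fin_cases j
    · rfl
    · exact absurd hij h01
    · exact absurd hij h02
    · exact absurd hij.symm h01
    · rfl
    · exact absurd hij h12
    · exact absurd hij.symm h02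
    · exact absurd hij.symm h12
    · rfl
  have h1 := (linearIndependent_monoidHom F F).comp f hf
  rw [Fintype.linearIndependent_iff] at h1
  have h2 := h1 ![1, b, c] (by
    funext l
    rw [Fin.sum_univ_three]
    have h3 := hcon l
    show (1 : F) * l + b * σ l + c * σ (σ l) = 0
    rw [← h3]
    ring) 0
  exact one_ne_zero h2

/-- **Galois descent.** -/
theorem descent (h3 : (3 : F) ≠ 0) {σ : F ≃+* F} (hσ : ∀ a, σ (σ (σ a)) = a) (hne : ∃ a, σ a ≠ a)
    {A : Matrix.SpecialLinearGroup (Fin 2) F}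
    (hA : A * Matrix.SpecialLinearGroup.map (σ : F →+* F) A *
      Matrix.SpecialLinearGroup.map (σ : F →+* F) (Matrix.SpecialLinearGroup.map (σ : F →+* F) A) = 1) :
    ∃ G : Matrix.SpecialLinearGroup (Fin 2) F, G⁻¹ * A * Matrix.SpecialLinearGroup.map (σ : F →+* F) G = 1 := by
  obtain ⟨s, hs⟩ : ∃ s, s = Matrix.SpecialLinearGroup.map (n := Fin 2) (σ : F →+* F) := ⟨_, rfl⟩
  rw [← hs] at hA ⊢
  have hss : ∀ (M : Matrix.SpecialLinearGroup (Fin 2) F) i j, (s M).1 i j = σ (M.1 i j) := by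
    intro M i j
    rw [hs]
    rfl
  have hs3 : ∀ M, s (s (s M)) = M := by
    intro M
    apply Subtype.ext
    ext i j
    rw [hss, hss, hss, hσ]
  obtain ⟨l, hl⟩ := exists_indep hσ hne (A.1 0 0) ((A * s A).1 0 0)
  obtain ⟨v0, hv0⟩ : ∃ v0, v0 = l + σ l * A.1 0 0 + σ (σ l) * (A * s A).1 0 0 := ⟨_, rfl⟩
  obtain ⟨v1, hv1⟩ : ∃ v1, v1 = σ l * A.1 1 0 + σ (σ l) * (A * s A).1 1 0 := ⟨_, rfl⟩
  rw [← hv0] at hl
  have hN : A * s (A * s A) = 1 := by rw [map_mul, ← mul_assoc, hA]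
  have hmul : ∀ (M N : Matrix.SpecialLinearGroup (Fin 2) F) i j, (M * N).1 i j = M.1 i 0 * N.1 0 j + M.1 i 1 * N.1 1 j := by
    intro M N i j
    rw [Matrix.SpecialLinearGroup.coe_mul, Matrix.mul_apply, Fin.sum_univ_two]
  have hN0 : A.1 0 0 * σ ((A * s A).1 0 0) + A.1 0 1 * σ ((A * s A).1 1 0) = 1 := by
    rw [← hss, ← hss, ← hmul, hN]
    simp
  have hN1 : A.1 1 0 * σ ((A * s A).1 0 0) + A.1 1 1 * σ ((A * s A).1 1 0) = 0 := by
    rw [← hss, ← hss, ← hmul, hN]
    simp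
  have hAA0 : (A * s A).1 0 0 = A.1 0 0 * σ (A.1 0 0) + A.1 0 1 * σ (A.1 1 0) := by rw [hmul, hss, hss]
  have hAA1 : (A * s A).1 1 0 = A.1 1 0 * σ (A.1 0 0) + A.1 1 1 * σ (A.1 1 0) := by rw [hmul, hss, hss]
  have hf0 : A.1 0 0 * σ v0 + A.1 0 1 * σ v1 = v0 := by
    rw [hv0, hv1]
    simp only [map_add, map_mul, hσ]
    linear_combination l * hN0 - σ (σ l) * hAA0
  have hf1 : A.1 1 0 * σ v0 + A.1 1 1 * σ v1 = v1 := by
    rw [hv0, hv1]
    simp only [map_add, map_mul, hσ]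
    linear_combination l * hN1 - σ (σ l) * hAA1
  let G : Matrix.SpecialLinearGroup (Fin 2) F := ⟨!![v0, 0; v1, v0⁻¹], by rw [Matrix.det_fin_two_of]; field_simp; ring⟩
  have hG : ∀ i j, G.1 i j = (!![v0, 0; v1, v0⁻¹] : Matrix (Fin 2) (Fin 2) F) i j := fun i j => rfl
  have hGi : ∀ i j, (G⁻¹).1 i j = (!![v0⁻¹, 0; -v1, v0] : Matrix (Fin 2) (Fin 2) F) i j := by
    intro i j
    have : (G⁻¹).1 = !![v0⁻¹, 0; -v1, v0] := by
      rw [Matrix.SpecialLinearGroup.coe_inv]
      show Matrix.adjugate !![v0, 0; v1, v0⁻¹] = _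
      rw [Matrix.adjugate_fin_two_of]
      simp
    rw [this]
  obtain ⟨B, hB⟩ : ∃ B, B = G⁻¹ * A * s G := ⟨_, rfl⟩
  have hGB : G * B = A * s G := by rw [hB]; group
  have hcol0 : (A * s G).1 0 0 = v0 := by
    rw [hmul, hss, hss, hG, hG]
    simpa only [_root_.Fin.isValue, _root_.Matrix.of_apply, _root_.Matrix.cons_val', _root_.Matrix.cons_val_zero, _root_.Matrix.cons_val_fin_one, _root_.Matrix.cons_val_one] using hf0
  have hcol1 : (A * s G).1 1 0 = v1 := by
    rw [hmul, hss, hss, hG, hG]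
    simpa only [_root_.Fin.isValue, _root_.Matrix.of_apply, _root_.Matrix.cons_val', _root_.Matrix.cons_val_zero, _root_.Matrix.cons_val_fin_one, _root_.Matrix.cons_val_one] using hf1
  have hB' : B = G⁻¹ * (A * s G) := by rw [← hGB, inv_mul_cancel_left]
  have hB0 : B.1 0 0 = 1 := by
    rw [hB', hmul, hcol0, hcol1, hGi, hGi]
    simp [hl]
  have hB1 : B.1 1 0 = 0 := by
    rw [hB', hmul, hcol0, hcol1, hGi, hGi]
    simp only [_root_.Fin.isValue, _root_.Matrix.of_apply, _root_.Matrix.cons_val', _root_.Matrix.cons_val_zero, _root_.Matrix.cons_val_fin_one, _root_.Matrix.cons_val_one, _root_.neg_mul]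
    ring
  have hBu := eq_up hB0 hB1
  obtain ⟨β, hβ⟩ : ∃ β, β = B.1 0 1 := ⟨_, rfl⟩
  rw [← hβ] at hBu
  have hsu : ∀ a, s (up a) = up (σ a) := by
    intro a
    rw [hs]
    exact map_up σ a
  have hNB : B * s B * s (s B) = 1 := by
    rw [hB]
    simp only [map_mul, map_inv, hs3]
    calc G⁻¹ * A * s G * ((s G)⁻¹ * s A * s (s G)) * ((s (s G))⁻¹ * s (s A) * G) = G⁻¹ * (A * s A * s (s A)) * G := by
          group
      _ = 1 := by rw [hA, mul_one, inv_mul_cancel]
  rw [hBu, hsu, hsu, up_mul, up_mul, ← up_zero'] at hNB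
  have htr := up_inj' hNB
  refine ⟨G * up ((2 * β + σ β) / 3), ?_⟩
  have e : (G * up ((2 * β + σ β) / 3))⁻¹ * A * s (G * up ((2 * β + σ β) / 3)) =
      (up ((2 * β + σ β) / 3))⁻¹ * B * up (σ ((2 * β + σ β) / 3)) := by
    rw [hB, map_mul, hsu]
    group
  rw [e, hBu, up_inv', up_mul, up_mul, ← up_zero']
  congr 1
  have e3 : σ 3 = 3 := map_ofNat σ 3
  have e2 : σ 2 = 2 := map_ofNat σ 2
  rw [map_div₀, map_add, map_mul, e3, e2]
  field_simp
  linear_combination htr

/-- the companion matrix of `X² + X + 1` -/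
def cZ : Matrix.SpecialLinearGroup (Fin 2) F := ⟨!![0, -1; 1, -1], by rw [Matrix.det_fin_two_of]; ring⟩

theorem exists_norm [Fintype F] (h3 : (3 : F) ≠ 0) (c : F) : ∃ x y : F, x ^ 2 - x * y + y ^ 2 = c := by
  by_cases h2 : (2 : F) = 0
  · have hc : CharP F 2 := CharTwo.of_one_ne_zero_of_two_eq_zero one_ne_zero h2
    obtain ⟨x, hx⟩ := FiniteField.isSquare_of_char_two (by exact ringChar.eq_iff.2 hc) c
    exact ⟨x, 0, by rw [hx]; ring⟩
  · have hodd : Fintype.card F % 2 = 1 := by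
      apply FiniteField.odd_card_of_char_ne_two
      intro h
      apply h2
      have := ringChar.spec F 2
      rw [h] at this
      have h4 : ((2 : ℕ) : F) = 0 := this.2 dvd_rfl
      exact_mod_cast h4
    obtain ⟨a, b, hab⟩ := FiniteField.exists_root_sum_quadratic (f := Polynomial.X ^ 2 - Polynomial.C (4 * c))
      (g := Polynomial.C 3 * Polynomial.X ^ 2) (Polynomial.degree_X_pow_sub_C (by norm_num) _)
      (by rw [Polynomial.degree_C_mul_X_pow 2 h3]; rfl) hodd
    simp only [_root_.map_mul, _root_.Polynomial.eval_sub, _root_.Polynomial.eval_pow, _root_.Polynomial.eval_X, _root_.Polynomial.eval_mul, _root_.Polynomial.eval_C] at hab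
    refine ⟨(a + b) / 2, b, ?_⟩
    field_simp
    linear_combination hab

/-- the elements of order three with nonzero entry `1 0` are conjugate -/
theorem exists_conj_cZ [Fintype F] (h3 : (3 : F) ≠ 0) {A : Matrix.SpecialLinearGroup (Fin 2) F} (hA : A ^ 3 = 1)
    (h0 : A.1 1 0 ≠ 0) : ∃ G, A = G * cZ * G⁻¹ := by
  have hmul : ∀ (M N : Matrix.SpecialLinearGroup (Fin 2) F) i j, (M * N).1 i j = M.1 i 0 * N.1 0 j + M.1 i 1 * N.1 1 j := by
    intro M N i j
    rw [Matrix.SpecialLinearGroup.coe_mul, Matrix.mul_apply, Fin.sum_univ_two]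
  have hd : A.1 0 0 * A.1 1 1 - A.1 0 1 * A.1 1 0 = 1 := by
    rw [← Matrix.det_fin_two]
    exact A.2
  -- the trace
  have hA2 : A * A = A⁻¹ := by
    rw [eq_inv_iff_mul_eq_one, ← hA]
    rw [pow_succ, pow_two]
  have h10 : A.1 1 0 * A.1 0 0 + A.1 1 1 * A.1 1 0 = -A.1 1 0 := by
    rw [← hmul, hA2, Matrix.SpecialLinearGroup.coe_inv, Matrix.adjugate_fin_two]
    simp
  have htr : A.1 0 0 + A.1 1 1 = -1 := by
    apply mul_left_cancel₀ h0
    linear_combination h10
  obtain ⟨x, y, hxy⟩ := exists_norm h3 (A.1 1 0)⁻¹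
  obtain ⟨v0, hv0⟩ : ∃ v0, v0 = x + y * A.1 0 0 := ⟨_, rfl⟩
  obtain ⟨v1, hv1⟩ : ∃ v1, v1 = y * A.1 1 0 := ⟨_, rfl⟩
  have hxy' : (x ^ 2 - x * y + y ^ 2) * A.1 1 0 = 1 := by rw [hxy, inv_mul_cancel₀ h0]
  let G : Matrix.SpecialLinearGroup (Fin 2) F := ⟨!![v0, A.1 0 0 * v0 + A.1 0 1 * v1; v1, A.1 1 0 * v0 + A.1 1 1 * v1], by
    rw [Matrix.det_fin_two_of, hv0, hv1]
    linear_combination hxy' + (y ^ 2 * A.1 1 0) * hd + (x * y * A.1 1 0) * htr⟩
  have hG : ∀ i j, G.1 i j = (!![v0, A.1 0 0 * v0 + A.1 0 1 * v1; v1, A.1 1 0 * v0 + A.1 1 1 * v1] :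
    Matrix (Fin 2) (Fin 2) F) i j := fun i j => rfl
  refine ⟨G, ?_⟩
  rw [eq_mul_inv_iff_mul_eq]
  have hc : ∀ i j, (cZ : Matrix.SpecialLinearGroup (Fin 2) F).1 i j = (!![0, -1; 1, -1] : Matrix (Fin 2) (Fin 2) F) i j :=
    fun i j => rfl
  have hA00 : A.1 0 0 * A.1 0 0 + A.1 0 1 * A.1 1 0 = -1 - A.1 0 0 := by linear_combination A.1 0 0 * htr - hd
  have hA01 : A.1 0 0 * A.1 0 1 + A.1 0 1 * A.1 1 1 = -A.1 0 1 := by linear_combination A.1 0 1 * htr
  have hA11 : A.1 1 0 * A.1 0 1 + A.1 1 1 * A.1 1 1 = -1 - A.1 1 1 := by linear_combination A.1 1 1 * htr - hd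
  apply Subtype.ext
  ext i j
  rw [hmul, hmul]
  fin_cases i <;> fin_cases j
  · show A.1 0 0 * G.1 0 0 + A.1 0 1 * G.1 1 0 = G.1 0 0 * cZ.1 0 0 + G.1 0 1 * cZ.1 1 0
    rw [hG, hG, hG, hc, hc]
    simp only [_root_.Fin.isValue, _root_.Matrix.of_apply, _root_.Matrix.cons_val', _root_.Matrix.cons_val_zero, _root_.Matrix.cons_val_fin_one, _root_.Matrix.cons_val_one, _root_.MulZeroClass.mul_zero, _root_.mul_one, _root_.zero_add]
  · show A.1 0 0 * G.1 0 1 + A.1 0 1 * G.1 1 1 = G.1 0 0 * cZ.1 0 1 + G.1 0 1 * cZ.1 1 1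
    rw [hG, hG, hG, hc, hc]
    simp only [_root_.Fin.isValue, _root_.Matrix.of_apply, _root_.Matrix.cons_val', _root_.Matrix.cons_val_one, _root_.Matrix.cons_val_fin_one, _root_.Matrix.cons_val_zero, _root_.mul_neg, _root_.mul_one, _root_.neg_add_rev]
    linear_combination v0 * hA00 + v1 * hA01
  · show A.1 1 0 * G.1 0 0 + A.1 1 1 * G.1 1 0 = G.1 1 0 * cZ.1 0 0 + G.1 1 1 * cZ.1 1 0
    rw [hG, hG, hG, hc, hc]
    simp only [_root_.Fin.isValue, _root_.Matrix.of_apply, _root_.Matrix.cons_val', _root_.Matrix.cons_val_zero, _root_.Matrix.cons_val_fin_one, _root_.Matrix.cons_val_one, _root_.MulZeroClass.mul_zero, _root_.mul_one, _root_.zero_add]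
  · show A.1 1 0 * G.1 0 1 + A.1 1 1 * G.1 1 1 = G.1 1 0 * cZ.1 0 1 + G.1 1 1 * cZ.1 1 1
    rw [hG, hG, hG, hc, hc]
    simp only [_root_.Fin.isValue, _root_.Matrix.of_apply, _root_.Matrix.cons_val', _root_.Matrix.cons_val_one, _root_.Matrix.cons_val_fin_one, _root_.Matrix.cons_val_zero, _root_.mul_neg, _root_.mul_one, _root_.neg_add_rev]
    linear_combination v0 * h10 + v1 * hA11

/-- no nontrivial cube roots of unity -/
theorem eq_one_of_cube [Fintype F] (hF : Fintype.card F % 3 = 2) {a : F} (ha : a ^ 3 = 1) : a = 1 := by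
  have ha0 : a ≠ 0 := by
    rintro rfl
    rw [zero_pow (by norm_num)] at ha
    exact zero_ne_one ha
  have h1 := FiniteField.pow_card_sub_one_eq_one a ha0
  have h2 := orderOf_dvd_of_pow_eq_one ha
  have h3 := orderOf_dvd_of_pow_eq_one h1
  rcases (Nat.dvd_prime Nat.prime_three).1 h2 with h4 | h4
  · exact orderOf_eq_one_iff.1 h4
  · rw [h4] at h3
    omega

/-- elements of order three have nonzero entry `1 0` -/
theorem ne_zero_of_three [Fintype F] (h3 : (3 : F) ≠ 0) (hF : Fintype.card F % 3 = 2)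
    {A : Matrix.SpecialLinearGroup (Fin 2) F} (hA : A ^ 3 = 1) (hA1 : A ≠ 1) : A.1 1 0 ≠ 0 := by
  intro h0
  apply hA1
  have hmul : ∀ (M N : Matrix.SpecialLinearGroup (Fin 2) F) i j, (M * N).1 i j = M.1 i 0 * N.1 0 j + M.1 i 1 * N.1 1 j := by
    intro M N i j
    rw [Matrix.SpecialLinearGroup.coe_mul, Matrix.mul_apply, Fin.sum_univ_two]
  have h00 : A.1 0 0 ^ 3 = 1 := by
    have h1 : (A ^ 3).1 0 0 = 1 := by rw [hA]; simp
    rw [pow_succ, pow_two, hmul, hmul, hmul, h0, mul_zero, mul_zero, add_zero, add_zero] at h1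
    linear_combination h1
  have h1 := eq_up (eq_one_of_cube hF h00) h0
  rw [h1, pow_succ, pow_two, up_mul, up_mul, ← up_zero'] at hA
  have h2 := up_inj' hA
  have h4 : A.1 0 1 = 0 := by
    have h5 : (3 : F) * A.1 0 1 = 0 := by linear_combination h2
    exact (mul_eq_zero.1 h5).resolve_left h3
  rw [h1, h4, up_zero']

end Cfsg.Agent.H866.D4Wf.SLThree
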